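import Groth.Agent.FibCatRep.Cart

/-!
Fibredness along a functor to a category fibred in sets.
-/

set_option autoImplicit false
set_option linter.style.haveILetI false
universe v₃ u₃ v₂ u₂ v u

namespace Groth.Agent.FibSetComp

open CategoryTheory FibCat Groth.Agent.FibCatRep

variable {C : Type u} [Category.{v} C] {𝒢 : Type u₂} [Category.{v₂} 𝒢]
  {ℱ : Type u₃} [Category.{v₃} ℱ] {G : 𝒢 ⥤ C} (hG : IsFibSet G)
include hG

lemma obj_eq_of_map_eqToHom {a b : 𝒢} (χ : a ⟶ b) (h : G.obj a = G.obj b) (hχ : G.map χ = eqToHom h) :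
    ∃ h' : a = b, χ = eqToHom h' := by
  let A : G.Fiber (G.obj b) := ⟨a, h⟩
  let B : G.Fiber (G.obj b) := ⟨b, rfl⟩
  haveI := hG.2 (G.obj b)
  let m : A ⟶ B := fibHom A B χ hχ
  have h' : A = B := IsDiscrete.eq_of_hom m
  have h'' : a = b := congrArg Subtype.val h'
  subst h''
  exact ⟨rfl, congrArg Subtype.val (Subsingleton.elim m (𝟙 A))⟩

lemma faithful : G.Faithful := ⟨fun {y x} φ φ' h => by
  obtain ⟨χ, ⟨hχ, hc⟩, -⟩ := existsUnique_cart hG.1 φ φ' (𝟙 _) (by rw [Category.id_comp, h])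
  obtain ⟨h', rfl⟩ := obj_eq_of_map_eqToHom hG χ rfl (by rw [hχ, eqToHom_refl])
  simpa using hc⟩

lemma unique_lift {y y' x : 𝒢} (φ : y ⟶ x) (φ' : y' ⟶ x) (h : G.obj y = G.obj y')
    (hφ : G.map φ = eqToHom h ≫ G.map φ') : ∃ h' : y = y', φ = eqToHom h' ≫ φ' := by
  obtain ⟨χ, ⟨hχ, hc⟩, -⟩ := existsUnique_cart hG.1 φ' φ (eqToHom h) hφ.symm
  obtain ⟨h', rfl⟩ := obj_eq_of_map_eqToHom hG χ h hχ
  exact ⟨h', hc.symm⟩

variable {F : ℱ ⥤ 𝒢}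

lemma cart_of_comp {b a : ℱ} {φ : b ⟶ a} (hφ : Cart (F ⋙ G) φ) : Cart F φ := by
  haveI := faithful hG
  refine cart_mk φ fun {z} ψ g hg => ?_
  obtain ⟨χ, ⟨hχ, hc⟩, hu⟩ := existsUnique_of_cart hφ ψ (G.map g) (by
    simp only [Functor.comp_map]; rw [← G.map_comp, hg])
  exact ⟨χ, ⟨G.map_injective hχ, hc⟩, fun χ' h' => hu χ' ⟨congrArg G.map h'.1, h'.2⟩⟩

lemma cart_comp_of {b a : ℱ} {φ : b ⟶ a} (hφ : Cart F φ) : Cart (F ⋙ G) φ := by
  haveI := faithful hG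
  refine cart_mk φ fun {z} ψ g hg => ?_
  obtain ⟨g₀, ⟨hg₀, hc₀⟩, -⟩ := existsUnique_cart hG.1 (F.map φ) (F.map ψ) g hg
  obtain ⟨χ, ⟨hχ, hc⟩, hu⟩ := existsUnique_of_cart hφ ψ g₀ hc₀
  refine ⟨χ, ⟨(congrArg G.map hχ).trans hg₀, hc⟩, fun χ' h' => hu χ' ⟨?_, h'.2⟩⟩
  exact G.map_injective (h'.1.trans hg₀.symm)

lemma lift_of_comp {a : ℱ} {R : 𝒢} (f : R ⟶ F.obj a) {b : ℱ} (φ : b ⟶ a)
    (h : G.obj (F.obj b) = G.obj R) (hφ : G.map (F.map φ) = eqToHom h ≫ G.map f) :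
    ∃ h' : F.obj b = R, F.map φ = eqToHom h' ≫ f :=
  unique_lift hG (F.map φ) f h hφ

theorem isFibered_iff (F : ℱ ⥤ 𝒢) : F.IsFibered ↔ (F ⋙ G).IsFibered := by
  constructor
  · intro hF
    refine isFibered_of_lifts fun x V f => ?_
    obtain ⟨r, ρ, hr, hρ⟩ := exists_lift hG.1 (x := F.obj x) f
    obtain ⟨b, φ, hb, hφ, hc⟩ := exists_cart_lift (p := F) (x := x) ρ
    subst hb
    exact ⟨b, φ, hr, by simp [hφ, hρ], cart_comp_of hG hc⟩
  · intro hF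
    refine isFibered_of_lifts fun x R f => ?_
    obtain ⟨b, φ, hb, hφ, hc⟩ := exists_cart_lift (p := F ⋙ G) (x := x) (G.map f)
    obtain ⟨h', hm⟩ := lift_of_comp hG f φ hb hφ
    exact ⟨b, φ, h', hm, cart_of_comp hG hc⟩

theorem isFibGrpd_iff (F : ℱ ⥤ 𝒢) : IsFibGrpd F ↔ IsFibGrpd (F ⋙ G) := by
  constructor
  · intro hF
    refine ⟨fun {x V} f => ?_, fun {y x} φ => cart_comp_of hG (cart_of_grpd hF φ)⟩
    obtain ⟨r, ρ, hr, hρ⟩ := exists_lift hG.1 (x := F.obj x) f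
    obtain ⟨b, φ, hb, hφ⟩ := exists_lift hF (x := x) ρ
    subst hb
    exact ⟨b, φ, IsHomLift.of_fac' (F ⋙ G) f φ hr rfl (by simp [hφ, hρ])⟩
  · intro hF
    refine ⟨fun {x R} f => ?_, fun {y x} φ => cart_of_comp hG (cart_of_grpd hF φ)⟩
    obtain ⟨b, φ, hb, hφ⟩ := exists_lift hF (x := x) (G.map f)
    obtain ⟨h', hm⟩ := lift_of_comp hG f φ hb hφ
    exact ⟨b, φ, IsHomLift.of_fac' F f φ h' rfl (by simp [hm])⟩

theorem isFibSet_iff (F : ℱ ⥤ 𝒢) : IsFibSet F ↔ IsFibSet (F ⋙ G) := by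
  haveI := faithful hG
  constructor
  · intro hF
    refine ⟨(isFibGrpd_iff hG F).1 hF.1, fun U => ⟨fun A B => ⟨fun m m' => ?_⟩, fun {A B} m => ?_⟩⟩
    · haveI := faithful hF
      refine Subtype.ext (F.map_injective (G.map_injective ?_))
      exact (map_of_fiber m).trans (map_of_fiber m').symm
    · obtain ⟨h', hm⟩ := obj_eq_of_map_eqToHom hG (F.map m.1) _ (map_of_fiber m)
      obtain ⟨h'', -⟩ := obj_eq_of_map_eqToHom hF m.1 h' hm
      exact Subtype.ext h''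
  · intro hF
    refine ⟨(isFibGrpd_iff hG F).2 hF.1, fun U => ⟨fun A B => ⟨fun m m' => ?_⟩, fun {A B} m => ?_⟩⟩
    · haveI := faithful hF
      exact Subtype.ext ((F ⋙ G).map_injective (congrArg G.map ((map_of_fiber m).trans (map_of_fiber m').symm)))
    · have h' : (F ⋙ G).obj A.1 = (F ⋙ G).obj B.1 := congrArg G.obj (A.2.trans B.2.symm)
      obtain ⟨h'', -⟩ := obj_eq_of_map_eqToHom hF m.1 h' (by simp [map_of_fiber m, eqToHom_map])
      exact Subtype.ext h''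

end Groth.Agent.FibSetComp
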